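/- Universal effective epimorphisms in a category with pullbacks. -/
import Mathlib

set_option autoImplicit false

open CategoryTheory CategoryTheory.Limits

namespace Groth.Agent.DescCat.EffEpi

universe v u

variable {C : Type u} [Category.{v} C]

/-- universal effective epimorphisms -/
abbrev UEE {A B : C} (f : A ⟶ B) : Prop :=
  MorphismProperty.universally (fun (A B : C) (p : A ⟶ B) => EffectiveEpi p) f

theorem UEE.effective {A B : C} {f : A ⟶ B} (hf : UEE f) : EffectiveEpi f :=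
  MorphismProperty.universally_le (fun (A B : C) (p : A ⟶ B) => EffectiveEpi p) f hf

theorem mk_effectiveEpi {A B : C} (f : A ⟶ B)
    (h : ∀ (W : C) (e : A ⟶ W), (∀ {Z : C} (g₁ g₂ : Z ⟶ A), g₁ ≫ f = g₂ ≫ f → g₁ ≫ e = g₂ ≫ e) →
      ∃! d : B ⟶ W, f ≫ d = e) : EffectiveEpi f :=
  ⟨⟨{ desc := fun e he => (h _ e he).choose
      fac := fun e he => (h _ e he).choose_spec.1
      uniq := fun e he m hm => (h _ e he).unique hm (h _ e he).choose_spec.1 }⟩⟩

theorem UEE.baseChange [HasPullbacks C] {A B D : C} {f : A ⟶ B} (hf : UEE f) (g : D ⟶ B) :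
    UEE (pullback.snd f g) :=
  MorphismProperty.of_isPullback (IsPullback.of_hasPullback f g) hf

theorem UEE.baseChange' [HasPullbacks C] {A B D : C} {f : A ⟶ B} (hf : UEE f) (g : D ⟶ B) :
    UEE (pullback.fst g f) :=
  MorphismProperty.of_isPullback (IsPullback.of_hasPullback g f).flip hf

theorem effectiveEpi_comp [HasPullbacks C] {U T S : C} (v : U ⟶ T) (u : T ⟶ S) [EffectiveEpi u]
    [EffectiveEpi v] (hv : MorphismProperty.universally (MorphismProperty.epimorphisms C) v) :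
    EffectiveEpi (v ≫ u) := by
  refine mk_effectiveEpi _ fun W e he => ?_
  have h1 : ∀ {Z : C} (g₁ g₂ : Z ⟶ U), g₁ ≫ v = g₂ ≫ v → g₁ ≫ e = g₂ ≫ e := fun g₁ g₂ h =>
    he g₁ g₂ (by rw [← Category.assoc, h, Category.assoc])
  let d₁ := EffectiveEpi.desc v e h1
  have hd₁ : v ≫ d₁ = e := EffectiveEpi.fac v e h1
  have h2 : ∀ {Z : C} (g₁ g₂ : Z ⟶ T), g₁ ≫ u = g₂ ≫ u → g₁ ≫ d₁ = g₂ ≫ d₁ := by
    intro Z g₁ g₂ h
    haveI : Epi (pullback.snd v g₁) := hv (pullback.fst v g₁) g₁ (pullback.snd v g₁)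
      (IsPullback.of_hasPullback v g₁).flip
    haveI : Epi (pullback.snd v (pullback.snd v g₁ ≫ g₂)) :=
      hv _ _ (pullback.snd v (pullback.snd v g₁ ≫ g₂)) (IsPullback.of_hasPullback _ _).flip
    rw [← cancel_epi (pullback.snd v g₁), ← cancel_epi (pullback.snd v (pullback.snd v g₁ ≫ g₂))]
    have ha := pullback.condition (f := v) (g := g₁)
    have hb := pullback.condition (f := v) (g := pullback.snd v g₁ ≫ g₂)
    rw [← reassoc_of% ha]
    rw [← reassoc_of% hb, hd₁]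
    refine (Category.assoc _ _ _).symm.trans (he _ _ ?_)
    rw [Category.assoc, reassoc_of% ha, h, reassoc_of% hb]
  refine ⟨EffectiveEpi.desc u d₁ h2, by simp only [Category.assoc, EffectiveEpi.fac, hd₁],
    fun d hd => ?_⟩
  rw [← cancel_epi u, EffectiveEpi.fac, ← cancel_epi v, hd₁, ← Category.assoc]
  exact hd

theorem UEE.comp [HasPullbacks C] {U T S : C} {v : U ⟶ T} {u : T ⟶ S} (hv : UEE v) (hu : UEE u) :
    UEE (v ≫ u) := by
  intro X Y i₁ i₂ f sq
  have sqT := IsPullback.of_hasPullback i₂ u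
  let l : X ⟶ pullback i₂ u := pullback.lift f (i₁ ≫ v) (by rw [Category.assoc]; exact sq.w)
  have sqv : IsPullback l i₁ (pullback.snd i₂ u) v := by
    refine IsPullback.of_right ?_ (pullback.lift_snd _ _ _) sqT
    rw [pullback.lift_fst]; exact sq
  haveI : EffectiveEpi (pullback.fst i₂ u) := UEE.effective (hu.baseChange' i₂)
  haveI : EffectiveEpi l := UEE.effective (MorphismProperty.of_isPullback sqv.flip hv)
  show EffectiveEpi f
  rw [show f = l ≫ pullback.fst i₂ u from (pullback.lift_fst _ _ _).symm]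
  refine effectiveEpi_comp _ _ fun A B j₁ j₂ p hp => ?_
  have := UEE.effective (MorphismProperty.of_isPullback hp.flip
    (MorphismProperty.of_isPullback sqv.flip hv))
  exact inferInstanceAs (Epi p)

theorem effectiveEpi_of_comp [HasPullbacks C] {U T S : C} (v : U ⟶ T) (u : T ⟶ S)
    (h : UEE (v ≫ u)) : EffectiveEpi u := by
  haveI := UEE.effective h
  refine mk_effectiveEpi _ fun W e he => ?_
  have h1 : ∀ {Z : C} (g₁ g₂ : Z ⟶ U), g₁ ≫ v ≫ u = g₂ ≫ v ≫ u → g₁ ≫ v ≫ e = g₂ ≫ v ≫ e :=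
    fun g₁ g₂ hg => by
      rw [← Category.assoc, ← Category.assoc]
      exact he _ _ (by rw [Category.assoc, Category.assoc]; exact hg)
  let d := EffectiveEpi.desc (v ≫ u) (v ≫ e) h1
  have hd : (v ≫ u) ≫ d = v ≫ e := EffectiveEpi.fac (v ≫ u) (v ≫ e) h1
  refine ⟨d, ?_, fun d' hd' => EffectiveEpi.uniq (v ≫ u) (v ≫ e) h1 d' (by rw [Category.assoc, hd'])⟩
  show u ≫ d = e
  haveI := UEE.effective (h.baseChange u)
  have hp := pullback.condition (f := v ≫ u) (g := u)
  rw [← cancel_epi (pullback.snd (v ≫ u) u), ← reassoc_of% hp]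
  rw [show v ≫ u ≫ d = v ≫ e from (Category.assoc _ _ _).symm.trans hd, ← Category.assoc]
  exact he _ _ (by rw [Category.assoc]; exact hp)

theorem UEE.of_comp [HasPullbacks C] {U T S : C} {v : U ⟶ T} {u : T ⟶ S} (h : UEE (v ≫ u)) :
    UEE u := by
  intro X Y i₁ i₂ f sq
  show EffectiveEpi f
  refine effectiveEpi_of_comp (pullback.fst i₁ v) f ?_
  exact MorphismProperty.of_isPullback
    (((IsPullback.of_hasPullback i₁ v).paste_horiz sq).flip) h

theorem exists_lift [HasPullbacks C] {A B Z : C} {f : A ⟶ B} (hf : UEE f) (a : Z ⟶ B) :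
    ∃ (Z' : C) (p : Z' ⟶ Z) (a' : Z' ⟶ A), Epi p ∧ a' ≫ f = p ≫ a := by
  haveI := UEE.effective (hf.baseChange a)
  exact ⟨_, pullback.snd f a, pullback.fst f a, inferInstance, pullback.condition⟩

theorem isIso_of_mono_of_effectiveEpi {A B : C} (f : A ⟶ B) [Mono f] [EffectiveEpi f] : IsIso f := by
  have h : ∀ {Z : C} (g₁ g₂ : Z ⟶ A), g₁ ≫ f = g₂ ≫ f → g₁ ≫ 𝟙 A = g₂ ≫ 𝟙 A := fun g₁ g₂ h => by
    rw [(cancel_mono f).mp h]
  refine ⟨EffectiveEpi.desc f (𝟙 A) h, EffectiveEpi.fac f (𝟙 A) h, ?_⟩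
  rw [← cancel_epi f, ← Category.assoc, EffectiveEpi.fac f (𝟙 A) h, Category.id_comp, Category.comp_id]

end Groth.Agent.DescCat.EffEpi
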